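import Groth.Agent.Lib.Helper16.SerreK0.K0A
import Groth.Agent.Lib.Helper16.K0Db.K0tr

/-!
# Euler characteristic of strictly perfect complexes in `K₀` of a class of projectives (helper16)

`P` is a class of projective objects of an abelian category, closed under isomorphisms, finite
biproducts and kernels of epimorphisms (e.g. finite projective modules).  For a bounded complex `E`
with terms in `P` (`SP P E`), `eul P E = Σ (-1)^i [E^i] ∈ K0sub P`.

* `eul_acyclic` : an acyclic strictly perfect complex has Euler characteristic `0`.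
* `eul_mappingCone` : `eul (cone f) = eul E' - eul E`.
* `eul_ses` : additivity in termwise short exact sequences.
-/

set_option autoImplicit false
universe v u

namespace Groth.Agent.Lib.Helper16

namespace PerfK0

open CategoryTheory CategoryTheory.Limits ResK0 K0Db SerreK0 ZeroObject

variable {C : Type u} [Category.{v} C] [Abelian C] (P : ObjectProperty C)

/-- hypotheses on a class `P` of "finite projective" objects -/
structure ProjClass : Prop where
  iso : ∀ {X Y : C}, (X ≅ Y) → P X → P Y
  zero : ∀ Z : C, IsZero Z → P Z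
  proj : ∀ X : C, P X → Projective X
  biprod : ∀ X Y : C, P X → P Y → P (X ⊞ Y)
  ker : ∀ {K L A : C}, SES K L A → P L → P A → P K

/-- strictly perfect complexes: bounded with terms in `P` -/
def SP (E : CochainComplex C ℤ) : Prop :=
  (∃ a b : ℤ, ∀ i : ℤ, i < a ∨ b < i → IsZero (E.X i)) ∧ ∀ i : ℤ, P (E.X i)

/-- the Euler characteristic `Σ (-1)^i [E^i]` -/
noncomputable def eul (E : CochainComplex C ℤ) : KZero.K0sub P :=
  altsum (fun i : ℤ => KZero.clSub P (E.X i))

variable {P}

lemma finite_support_of_bounded {X : ℤ → C} {a b : ℤ} (h : ∀ i : ℤ, i < a ∨ b < i → IsZero (X i)) :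
    (Function.support fun i : ℤ => KZero.clSub P (X i)).Finite := by
  refine (Set.finite_Icc a b).subset (fun i hi => ?_)
  rw [Function.mem_support] at hi
  rw [Set.mem_Icc]
  by_contra hc
  apply hi
  apply clSub_of_isZero
  apply h
  rw [not_and_or, not_le, not_le] at hc
  exact hc

lemma SP.finite_support {E : CochainComplex C ℤ} (hE : SP P E) :
    (Function.support fun i : ℤ => KZero.clSub P (E.X i)).Finite := by
  obtain ⟨⟨a, b, hab⟩, -⟩ := hE
  exact finite_support_of_bounded hab

lemma clSub_ses {K L A : C} (hs : SES K L A) (hK : P K) (hL : P L) (hA : P A) :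
    KZero.clSub P L = KZero.clSub P K + KZero.clSub P A := by
  rw [clSub_eq P hK, clSub_eq P hL, clSub_eq P hA]
  exact clP_ses hs hK hL hA

lemma clSub_biprod (hP : ProjClass P) {X Y : C} (hX : P X) (hY : P Y) :
    KZero.clSub P (X ⊞ Y) = KZero.clSub P X + KZero.clSub P Y :=
  clSub_ses (ses_biprod X Y) hX (hP.biprod X Y hX hY) hY

lemma clSub_iso' (hP : ProjClass P) {X Y : C} (e : X ≅ Y) (hX : P X) :
    KZero.clSub P X = KZero.clSub P Y := by
  have hY : P Y := hP.iso e hX
  have h0 : P (0 : C) := hP.zero _ (isZero_zero C)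
  have := clSub_ses (ses_of_iso e (isZero_zero C)) hX hY h0
  rw [clSub_of_isZero P (isZero_zero C), add_zero] at this
  exact this.symm

section Cycles

variable (E : CochainComplex C ℤ)

lemma epi_toCycles (i : ℤ) (h : E.ExactAt (i + 1)) : Epi (E.toCycles i (i + 1)) :=
  Preadditive.epi_of_isZero_cokernel' _ (E.homologyIsCokernel i (i + 1) (by simp))
    ((E.exactAt_iff_isZero_homology (i + 1)).1 h)

lemma ses_cycles (i : ℤ) (h : E.ExactAt (i + 1)) :
    SES (E.cycles i) (E.X i) (E.cycles (i + 1)) := by
  have := epi_toCycles E i h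
  have w : E.iCycles i ≫ E.toCycles i (i + 1) = 0 := by
    rw [← cancel_mono (E.iCycles (i + 1)), Category.assoc, E.toCycles_i, zero_comp, E.iCycles_d]
  refine ses_of_lift (E.iCycles i) (E.toCycles i (i + 1)) w ?_
  intro T k hk
  have hk' : k ≫ E.d i (i + 1) = 0 := by
    rw [← E.toCycles_i, ← Category.assoc, hk, zero_comp]
  exact ⟨E.liftCycles k (i + 1) (by simp) hk', E.liftCycles_i _ _ _ _⟩

lemma isZero_cycles {i : ℤ} (h : IsZero (E.X i)) : IsZero (E.cycles i) :=
  IsZero.of_mono (E.iCycles i) h

end Cycles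

lemma prop_cycles (hP : ProjClass P) {E : CochainComplex C ℤ} (hE : SP P E)
    (hex : ∀ i : ℤ, E.ExactAt i) (i : ℤ) : P (E.cycles i) := by
  obtain ⟨⟨a, b, hab⟩, hX⟩ := hE
  have key : ∀ n : ℕ, P (E.cycles (b + 1 - n)) := by
    intro n
    induction n with
    | zero =>
      apply hP.zero
      apply isZero_cycles
      apply hab
      right
      simp
    | succ n ih =>
      have h1 : b + 1 - ((n + 1 : ℕ) : ℤ) + 1 = b + 1 - (n : ℤ) := by push_cast; ring
      have hs := ses_cycles E (b + 1 - ((n + 1 : ℕ) : ℤ)) (hex _)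
      rw [h1] at hs
      exact hP.ker hs (hX _) ih
  by_cases hi : b < i
  · exact hP.zero _ (isZero_cycles E (hab i (Or.inr hi)))
  · have : i = b + 1 - ((b + 1 - i).toNat : ℤ) := by
      rw [Int.toNat_of_nonneg (by omega)]
      ring
    rw [this]
    exact key _

/-- an acyclic strictly perfect complex has vanishing Euler characteristic -/
theorem eul_acyclic (hP : ProjClass P) {E : CochainComplex C ℤ} (hE : SP P E)
    (hex : ∀ i : ℤ, E.ExactAt i) : eul P E = 0 := by
  have hZ := prop_cycles hP hE hex
  obtain ⟨⟨a, b, hab⟩, hX⟩ := hE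
  have e1 : ∀ i : ℤ, KZero.clSub P (E.X i) =
      KZero.clSub P (E.cycles i) + KZero.clSub P (E.cycles (i + 1)) := fun i =>
    clSub_ses (ses_cycles E i (hex _)) (hZ i) (hX i) (hZ (i + 1))
  have f1 : (Function.support fun i : ℤ => KZero.clSub P (E.cycles i)).Finite :=
    finite_support_of_bounded (a := a) (b := b) (fun i hi => isZero_cycles E (hab i hi))
  have f2 : (Function.support fun i : ℤ => KZero.clSub P (E.cycles (i + 1))).Finite :=
    f1.preimage (f := fun i : ℤ => i + 1) (fun x _ y _ hxy => by simpa using hxy)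
  unfold eul
  rw [altsum_congr e1, altsum_add _ _ f1 f2, altsum_shift (fun i => KZero.clSub P (E.cycles i))]
  abel

/-- additivity of the Euler characteristic in termwise short exact sequences -/
theorem eul_ses {E₁ E₂ E₃ : CochainComplex C ℤ} (h₁ : SP P E₁) (h₂ : SP P E₂) (h₃ : SP P E₃)
    (hs : ∀ i : ℤ, SES (E₁.X i) (E₂.X i) (E₃.X i)) : eul P E₂ = eul P E₁ + eul P E₃ := by
  unfold eul
  rw [← altsum_add _ _ h₁.finite_support h₃.finite_support]
  exact altsum_congr (fun i => clSub_ses (hs i) (h₁.2 i) (h₂.2 i) (h₃.2 i))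

section Cone

open CochainComplex

variable {E E' : CochainComplex C ℤ} (f : E ⟶ E')

lemma SP_mappingCone (hP : ProjClass P) (hE : SP P E) (hE' : SP P E') : SP P (mappingCone f) := by
  obtain ⟨⟨a, b, hab⟩, hX⟩ := hE
  obtain ⟨⟨a', b', hab'⟩, hX'⟩ := hE'
  refine ⟨⟨min (a - 1) a', max b b', fun i hi => ?_⟩, fun i => ?_⟩
  · refine IsZero.of_iso ?_ (HomologicalComplex.homotopyCofiber.XIsoBiprod f i (i + 1) rfl)
    rw [biprod_isZero_iff]
    constructor
    · apply hab
      rcases hi with hi | hi
      · left
        have := lt_of_lt_of_le hi (min_le_left _ _)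
        omega
      · right
        have := lt_of_le_of_lt (le_max_left _ _) hi
        omega
    · apply hab'
      rcases hi with hi | hi
      · left
        exact lt_of_lt_of_le hi (min_le_right _ _)
      · right
        exact lt_of_le_of_lt (le_max_right _ _) hi
  · exact hP.iso (HomologicalComplex.homotopyCofiber.XIsoBiprod f i (i + 1) rfl).symm
      (hP.biprod _ _ (hX (i + 1)) (hX' i))

theorem eul_mappingCone (hP : ProjClass P) (hE : SP P E) (hE' : SP P E') :
    eul P (mappingCone f) = eul P E' - eul P E := by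
  have e1 : ∀ i : ℤ, KZero.clSub P ((mappingCone f).X i) =
      KZero.clSub P (E.X (i + 1)) + KZero.clSub P (E'.X i) := fun i => by
    rw [← clSub_biprod hP (hE.2 (i + 1)) (hE'.2 i)]
    exact clSub_iso' hP (HomologicalComplex.homotopyCofiber.XIsoBiprod f i (i + 1) rfl) ((SP_mappingCone f hP hE hE').2 i)
  have f2 : (Function.support fun i : ℤ => KZero.clSub P (E.X (i + 1))).Finite :=
    hE.finite_support.preimage (f := fun i : ℤ => i + 1) (fun x _ y _ hxy => by simpa using hxy)
  unfold eul
  rw [altsum_congr e1, altsum_add _ _ f2 hE'.finite_support,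
    altsum_shift (fun i => KZero.clSub P (E.X i))]
  abel

end Cone

end PerfK0

end Groth.Agent.Lib.Helper16
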