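import Groth.Agent.Lib.Helper16.PerfK0.Phi

/-!
# `K₀(P) ≃ K₀(Perf)` : the class of a strictly perfect complex is its Euler characteristic (helper16)
-/

set_option autoImplicit false
set_option linter.unusedSectionVars false
universe w v u

namespace Groth.Agent.Lib.Helper16

namespace PerfK0

open CategoryTheory CategoryTheory.Limits ResK0 K0Db SerreK0 ZeroObject Pretriangulated
  DerivedCategory

variable {C : Type u} [Category.{v} C] [Abelian C] [HasDerivedCategory.{w} C]
  {P : ObjectProperty C}

/-- additivity on short exact sequences of complexes -/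
lemma delta_ses (hP : ProjClass P) (S : ShortComplex (CochainComplex C ℤ)) (hS : S.ShortExact)
    (h₁ : SP P S.X₁) (h₂ : SP P S.X₂) (h₃ : SP P S.X₃)
    (d₁ : clQ (PerfP P) (Q.obj S.X₁) (perfP_Q h₁) = phi hP (eul P S.X₁))
    (d₃ : clQ (PerfP P) (Q.obj S.X₃) (perfP_Q h₃) = phi hP (eul P S.X₃)) :
    clQ (PerfP P) (Q.obj S.X₂) (perfP_Q h₂) = phi hP (eul P S.X₂) := by
  have hT := triangleOfSES_distinguished hS
  have h := clQ_triangle (triangleOfSES hS) hT (perfP_Q h₁) (perfP_Q h₂) (perfP_Q h₃)
  have he : eul P S.X₂ = eul P S.X₁ + eul P S.X₃ :=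
    eul_ses h₁ h₂ h₃ (fun i => SES.of_shortExact
      (hS.map_of_exact (HomologicalComplex.eval C (ComplexShape.up ℤ) i)))
  rw [he, map_add, ← d₁, ← d₃]
  exact h

lemma delta_single (hP : ProjClass P) {M : C} (hM : P M) (n : ℤ) :
    clQ (PerfP P) (Q.obj ((HomologicalComplex.single C (ComplexShape.up ℤ) n).obj M))
      (perfP_Q (SP_single hP hM n)) =
      phi hP (eul P ((HomologicalComplex.single C (ComplexShape.up ℤ) n).obj M)) := by
  rw [eul_single hP hM n, map_zsmul, clSub_eq P hM, phi_clP, ← clQ_single hP hM n]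
  exact clQ_iso (Q := PerfP P) (fun Z hZ => perfP_of_isZero hP hZ)
    ((singleFunctorIsoCompQ C n).app M).symm _ _

lemma delta_zero (hP : ProjClass P) {E : CochainComplex C ℤ} (hE : SP P E)
    (h0 : ∀ i : ℤ, IsZero (E.X i)) :
    clQ (PerfP P) (Q.obj E) (perfP_Q hE) = phi hP (eul P E) := by
  have hz : IsZero E := by
    rw [IsZero.iff_id_eq_zero]
    ext i
    exact (h0 i).eq_of_src _ _
  have he : eul P E = 0 := by
    unfold eul altsum
    have : (fun i : ℤ => ((i.negOnePow : ℤˣ) : ℤ) • KZero.clSub P (E.X i)) = fun _ => 0 := by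
      funext i
      rw [clSub_of_isZero P (h0 i), smul_zero]
    rw [this, finsum_zero]
  rw [he, map_zero]
  exact clQ_of_isZero (Q.map_isZero hz) _

lemma delta_aux (hP : ProjClass P) : ∀ (n : ℕ) (E : CochainComplex C ℤ) (hE : SP P E) (a : ℤ),
    (∀ i : ℤ, i < a ∨ a + n ≤ i → IsZero (E.X i)) →
      clQ (PerfP P) (Q.obj E) (perfP_Q hE) = phi hP (eul P E) := by
  intro n
  induction n with
  | zero =>
    intro E hE a h
    refine delta_zero hP hE (fun i => h i ?_)
    simp only [Nat.cast_zero, add_zero]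
    exact lt_or_ge i a
  | succ n ih =>
    intro E hE a h
    let b : ℤ := a + n
    have hb1 : IsZero (E.X (b + 1)) := h _ (Or.inr (by simp [b]; omega))
    let ι : (HomologicalComplex.single C (ComplexShape.up ℤ) b).obj (E.X b) ⟶ E :=
      HomologicalComplex.mkHomFromSingle (𝟙 (E.X b)) (fun k hk => by
        obtain rfl : b + 1 = k := hk
        exact hb1.eq_of_tgt _ _)
    have hιb : IsIso (ι.f b) := by
      dsimp only [ι]
      rw [HomologicalComplex.mkHomFromSingle_f]
      infer_instance
    have hmono : Mono ι := by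
      have : ∀ i, Mono (ι.f i) := fun i => by
        by_cases hi : i = b
        · subst hi
          infer_instance
        · exact (HomologicalComplex.isZero_single_obj_X _ _ _ _ hi).mono _
      exact HomologicalComplex.mono_of_mono_f ι this
    let S : ShortComplex (CochainComplex C ℤ) :=
      ShortComplex.mk ι (cokernel.π ι) (cokernel.condition ι)
    have hS : S.ShortExact :=
      { exact := ShortComplex.exact_cokernel ι
        mono_f := hmono
        epi_g := inferInstanceAs (Epi (cokernel.π ι)) }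
    have hSi : ∀ i : ℤ, (S.map (HomologicalComplex.eval C (ComplexShape.up ℤ) i)).ShortExact :=
      fun i => hS.map_of_exact _
    have hzb : IsZero ((cokernel ι).X b) := (hSi b).isIso_f_iff.1 hιb
    have hiso : ∀ i : ℤ, i ≠ b → IsIso ((cokernel.π ι).f i) := fun i hi =>
      (hSi i).isIso_g_iff.2
        (HomologicalComplex.isZero_single_obj_X (ComplexShape.up ℤ) b (E.X b) i hi)
    have hz3 : ∀ i : ℤ, i < a ∨ a + n ≤ i → IsZero ((cokernel ι).X i) := by
      intro i hi
      by_cases hib : i = b
      · subst hib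
        exact hzb
      · have := hiso i hib
        refine IsZero.of_iso (h i ?_) (asIso ((cokernel.π ι).f i)).symm
        rcases hi with hi | hi
        · exact Or.inl hi
        · right
          have : i ≠ a + n := hib
          push_cast
          omega
    have h3 : SP P (cokernel ι) := by
      refine ⟨⟨a, a + n - 1, fun i hi => hz3 i (by omega)⟩, fun i => ?_⟩
      by_cases hib : i = b
      · subst hib
        exact hP.zero _ hzb
      · have := hiso i hib
        exact hP.iso (asIso ((cokernel.π ι).f i)) (hE.2 i)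
    exact delta_ses hP S hS (SP_single hP (hE.2 b) b) hE h3 (delta_single hP (hE.2 b) b)
      (ih (cokernel ι) h3 a hz3)

theorem delta (hP : ProjClass P) {E : CochainComplex C ℤ} (hE : SP P E) :
    clQ (PerfP P) (Q.obj E) (perfP_Q hE) = phi hP (eul P E) := by
  obtain ⟨a, b, hab⟩ := hE.1
  refine delta_aux hP (b + 1 - a).toNat E hE a (fun i hi => hab i ?_)
  omega

lemma phi_psi (hP : ProjClass P) (y : KZero.K0tr (PerfP P)) : phi hP (psi hP y) = y := by
  refine K0tr_hom_ext ((phi hP).comp (psi hP)) (AddMonoidHom.id _) (fun K hK => ?_) y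
  obtain ⟨E, hE, ⟨e⟩⟩ := (perfP_iff K).1 hK
  rw [AddMonoidHom.comp_apply, AddMonoidHom.id_apply, psi_clQ, eulD_eq hP hK hE e, ← delta hP hE]
  exact clQ_iso (Q := PerfP P) (fun Z hZ => perfP_of_isZero hP hZ) e _ _

/-- `K₀(P) ≃ K₀(Perf)`, with the formula for the inverse on strictly perfect complexes -/
theorem main (hP : ProjClass P) : ∃ φ : KZero.K0sub P ≃+ KZero.K0tr (PerfP P),
    (∀ M : C, P M → φ (KZero.clSub P M) = KZero.clTr (PerfP P) ((singleFunctor C 0).obj M)) ∧
    ∀ E : CochainComplex C ℤ, SP P E → φ.symm (KZero.clTr (PerfP P) (Q.obj E)) = eul P E := by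
  refine ⟨AddMonoidHom.toAddEquiv (phi hP) (psi hP) ?_ ?_, ?_, ?_⟩
  · exact AddMonoidHom.ext fun x => psi_phi hP x
  · exact AddMonoidHom.ext fun y => phi_psi hP y
  · intro M hM
    rw [AddMonoidHom.toAddEquiv_apply, clSub_eq P hM, phi_clP, clTr_eq (PerfP P)]
  · intro E hE
    rw [AddMonoidHom.toAddEquiv_symm_apply, clTr_eq (PerfP P) (perfP_Q hE)]
    exact psi_clQ_Q hP hE

end PerfK0

end Groth.Agent.Lib.Helper16
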