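import Groth.Agent.Lib.Helper16.PerfK0.Psi

/-!
# `K₀(P) ≃ K₀(Perf)` for a class `P` of finite projectives (helper16)
-/

set_option autoImplicit false
set_option linter.unusedSectionVars false
universe w v u

namespace Groth.Agent.Lib.Helper16

namespace PerfK0

open CategoryTheory CategoryTheory.Limits ResK0 K0Db SerreK0 ZeroObject Pretriangulated
  DerivedCategory

variable {C : Type u} [Category.{v} C] [Abelian C] [HasDerivedCategory.{w} C]
  {P : ObjectProperty C}

section Single

lemma SP_single (hP : ProjClass P) {M : C} (hM : P M) (n : ℤ) :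
    SP P ((HomologicalComplex.single C (ComplexShape.up ℤ) n).obj M) := by
  refine ⟨⟨n, n, fun i hi => ?_⟩, fun i => ?_⟩
  · apply HomologicalComplex.isZero_single_obj_X
    rcases hi with hi | hi <;> omega
  · by_cases hi : i = n
    · subst hi
      exact hP.iso (HomologicalComplex.singleObjXSelf (ComplexShape.up ℤ) i M).symm hM
    · exact hP.zero _ (HomologicalComplex.isZero_single_obj_X _ _ _ _ hi)

lemma altsum_single' {G : Type*} [AddCommGroup G] (c : ℤ → G) (n : ℤ)
    (h : ∀ i : ℤ, i ≠ n → c i = 0) : altsum c = ((n.negOnePow : ℤˣ) : ℤ) • c n := by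
  unfold altsum
  rw [finsum_eq_single _ n (fun i hi => by rw [h i hi, smul_zero])]

lemma eul_single (hP : ProjClass P) {M : C} (hM : P M) (n : ℤ) :
    eul P ((HomologicalComplex.single C (ComplexShape.up ℤ) n).obj M) =
      ((n.negOnePow : ℤˣ) : ℤ) • KZero.clSub P M := by
  unfold eul
  rw [altsum_single' _ n (fun i hi => clSub_of_isZero P
    (HomologicalComplex.isZero_single_obj_X _ _ _ _ hi))]
  congr 1
  exact clSub_iso' hP (HomologicalComplex.singleObjXSelf (ComplexShape.up ℤ) n M)
    ((SP_single hP hM n).2 n)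

lemma perfP_single (hP : ProjClass P) {M : C} (hM : P M) (n : ℤ) :
    PerfP P ((singleFunctor C n).obj M) :=
  perfP_of_iso ((singleFunctorIsoCompQ C n).app M).symm (perfP_Q (SP_single hP hM n))

lemma perfP_of_isZero (hP : ProjClass P) {Z : DerivedCategory C} (hZ : IsZero Z) : PerfP P Z := by
  have h0 : P (0 : C) := hP.zero _ (isZero_zero C)
  have : IsZero ((singleFunctor C 0).obj (0 : C)) :=
    (singleFunctor C 0).map_isZero (isZero_zero C)
  exact perfP_of_iso (this.iso hZ) (perfP_single hP h0 0)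

lemma clQ_single_succ (hP : ProjClass P) {M : C} (hM : P M) (n m : ℤ) (h : m = n + 1) :
    clQ (PerfP P) ((singleFunctor C m).obj M) (perfP_single hP hM m) =
      - clQ (PerfP P) ((singleFunctor C n).obj M) (perfP_single hP hM n) := by
  subst h
  let e : ((singleFunctor C (n + 1)).obj M)⟦(1 : ℤ)⟧ ≅ (singleFunctor C n).obj M :=
    ((singleFunctors C).shiftIso 1 n (n + 1) (by ring)).app M
  have h1 : PerfP P (((singleFunctor C (n + 1)).obj M)⟦(1 : ℤ)⟧) :=
    perfP_of_iso e.symm (perfP_single hP hM n)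
  have h2 := clQ_shift (Q := PerfP P) (fun Z hZ => perfP_of_isZero hP hZ)
    (perfP_single hP hM (n + 1)) h1
  have h3 := clQ_iso (Q := PerfP P) (fun Z hZ => perfP_of_isZero hP hZ) e h1
    (perfP_single hP hM n)
  rw [← h3, h2, neg_neg]

lemma clQ_single (hP : ProjClass P) {M : C} (hM : P M) (n : ℤ) :
    clQ (PerfP P) ((singleFunctor C n).obj M) (perfP_single hP hM n) =
      ((n.negOnePow : ℤˣ) : ℤ) • clQ (PerfP P) ((singleFunctor C 0).obj M)
        (perfP_single hP hM 0) := by
  induction n using Int.induction_on with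
  | zero => simp
  | succ i ih =>
    rw [clQ_single_succ hP hM i (i + 1) rfl, ih, Int.negOnePow_succ]
    simp
  | pred i ih =>
    have := clQ_single_succ hP hM (-(i : ℤ) - 1) (-(i : ℤ)) (by ring)
    rw [this, neg_eq_iff_eq_neg] at ih
    rw [ih, Int.negOnePow_sub, Int.negOnePow_one]
    simp

end Single

section Phi

lemma phi_rel (hP : ProjClass P) {K L A : C} (hs : SES K L A) (hK : P K) (hL : P L) (hA : P A) :
    clQ (PerfP P) ((singleFunctor C 0).obj L) (perfP_single hP hL 0) =
      clQ (PerfP P) ((singleFunctor C 0).obj K) (perfP_single hP hK 0) +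
        clQ (PerfP P) ((singleFunctor C 0).obj A) (perfP_single hP hA 0) := by
  obtain ⟨i, p, w, hS⟩ := hs
  exact clQ_triangle hS.singleTriangle hS.singleTriangle_distinguished
    (perfP_single hP hK 0) (perfP_single hP hL 0) (perfP_single hP hA 0)

/-- the map `K₀(P) → K₀(Perf)` induced by `M ↦ M[0]` -/
noncomputable def phi (hP : ProjClass P) : KZero.K0sub P →+ KZero.K0tr (PerfP P) :=
  K0lift (fun X hX => clQ (PerfP P) ((singleFunctor C 0).obj X) (perfP_single hP hX 0))
    (fun hs hK hL hA => phi_rel hP hs hK hL hA)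

lemma phi_clP (hP : ProjClass P) (X : C) (hX : P X) :
    phi hP (clP P X hX) = clQ (PerfP P) ((singleFunctor C 0).obj X) (perfP_single hP hX 0) :=
  K0lift_clP (fun X hX => clQ (PerfP P) ((singleFunctor C 0).obj X) (perfP_single hP hX 0))
    (fun hs hK hL hA => phi_rel hP hs hK hL hA) X hX

lemma psi_phi (hP : ProjClass P) (x : KZero.K0sub P) : psi hP (phi hP x) = x := by
  refine K0sub_hom_ext ((psi hP).comp (phi hP)) (AddMonoidHom.id _) (fun X hX => ?_) x
  rw [AddMonoidHom.comp_apply, phi_clP, psi_clQ, AddMonoidHom.id_apply,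
    eulD_eq hP _ (SP_single hP hX 0) ((singleFunctorIsoCompQ C 0).app X).symm,
    eul_single hP hX 0, ← clSub_eq P hX]
  simp

end Phi

end PerfK0

end Groth.Agent.Lib.Helper16
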