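import Groth.Agent.Lib.Helper16.PerfK0.Euler

/-!
# The Euler characteristic `K₀(Perf) → K₀(P)` (helper16)
-/

set_option autoImplicit false
set_option linter.unusedSectionVars false
universe w v u

namespace Groth.Agent.Lib.Helper16

namespace PerfK0

open CategoryTheory CategoryTheory.Limits ResK0 K0Db SerreK0 ZeroObject Pretriangulated
  DerivedCategory

variable {C : Type u} [Category.{v} C] [Abelian C] [HasDerivedCategory.{w} C]
  (P : ObjectProperty C)

/-- perfect objects of the derived category relative to the class `P` -/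
def PerfP : ObjectProperty (DerivedCategory C) := fun K =>
  ∃ (E : CochainComplex C ℤ) (a b : ℤ), (∀ i : ℤ, i < a ∨ b < i → IsZero (E.X i)) ∧
    (∀ i : ℤ, P (E.X i)) ∧ Nonempty (Q.obj E ≅ K)

variable {P}

lemma perfP_iff (K : DerivedCategory C) :
    PerfP P K ↔ ∃ E : CochainComplex C ℤ, SP P E ∧ Nonempty (Q.obj E ≅ K) := by
  constructor
  · rintro ⟨E, a, b, hab, hX, e⟩
    exact ⟨E, ⟨⟨a, b, hab⟩, hX⟩, e⟩
  · rintro ⟨E, ⟨⟨a, b, hab⟩, hX⟩, e⟩
    exact ⟨E, a, b, hab, hX, e⟩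

lemma perfP_Q {E : CochainComplex C ℤ} (hE : SP P E) : PerfP P (Q.obj E) :=
  (perfP_iff _).2 ⟨E, hE, ⟨Iso.refl _⟩⟩

lemma perfP_of_iso {K L : DerivedCategory C} (e : K ≅ L) (hK : PerfP P K) : PerfP P L := by
  obtain ⟨E, hE, ⟨e'⟩⟩ := (perfP_iff _).1 hK
  exact (perfP_iff _).2 ⟨E, hE, ⟨e' ≪≫ e⟩⟩

lemma SP.isKProjective (hP : ProjClass P) {E : CochainComplex C ℤ} (hE : SP P E) :
    E.IsKProjective := by
  obtain ⟨⟨a, b, hab⟩, hX⟩ := hE
  have : E.IsStrictlyLE b := by
    rw [CochainComplex.isStrictlyLE_iff]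
    intro i hi
    exact hab i (Or.inr hi)
  have : ∀ n, Projective (E.X n) := fun n => hP.proj _ (hX n)
  exact CochainComplex.isKProjective_of_projective E b

/-- morphisms out of a strictly perfect complex in the derived category are represented by
morphisms of complexes -/
lemma exists_map_eq (hP : ProjClass P) {E : CochainComplex C ℤ} (hE : SP P E)
    (L : CochainComplex C ℤ) (g : Q.obj E ⟶ Q.obj L) : ∃ f : E ⟶ L, Q.map f = g := by
  have := hE.isKProjective hP
  obtain ⟨h, hh⟩ := (CochainComplex.IsKProjective.Qh_map_bijective E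
    ((HomotopyCategory.quotient _ _).obj L)).surjective
    ((quotientCompQhIso C).hom.app E ≫ g ≫ (quotientCompQhIso C).inv.app L)
  obtain ⟨f, rfl⟩ := (HomotopyCategory.quotient C (ComplexShape.up ℤ)).map_surjective h
  refine ⟨f, ?_⟩
  have nat := (quotientCompQhIso C).hom.naturality f
  dsimp at nat
  rw [hh] at nat
  simpa using nat.symm

lemma isZero_Q_of_acyclic_aux {E : CochainComplex C ℤ} (h : IsZero (Q.obj E)) (i : ℤ) :
    E.ExactAt i := by
  rw [HomologicalComplex.exactAt_iff_isZero_homology]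
  exact IsZero.of_iso ((DerivedCategory.homologyFunctor C i).map_isZero h)
    ((homologyFunctorFactors C i).app E).symm

/-- the Euler characteristic is invariant under isomorphisms in the derived category -/
theorem eul_eq_of_iso (hP : ProjClass P) {E E' : CochainComplex C ℤ} (hE : SP P E)
    (hE' : SP P E') (e : Q.obj E ≅ Q.obj E') : eul P E = eul P E' := by
  obtain ⟨f, hf⟩ := exists_map_eq hP hE E' e.hom
  have hT := mappingCone_triangle_distinguished f
  have hiso : IsIso (Q.mapTriangle.obj (CochainComplex.mappingCone.triangle f)).mor₁ := by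
    change IsIso (Q.map f)
    rw [hf]
    infer_instance
  have hZ : IsZero (Q.obj (CochainComplex.mappingCone f)) :=
    (Triangle.isZero₃_iff_isIso₁ _ hT).2 hiso
  have h0 := eul_acyclic hP (SP_mappingCone f hP hE hE') (isZero_Q_of_acyclic_aux hZ)
  rw [eul_mappingCone f hP hE hE', sub_eq_zero] at h0
  exact h0.symm

/-- the Euler characteristic of a perfect object -/
noncomputable def eulD (K : DerivedCategory C) (hK : PerfP P K) : KZero.K0sub P :=
  eul P ((perfP_iff K).1 hK).choose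

lemma eulD_eq (hP : ProjClass P) {K : DerivedCategory C} (hK : PerfP P K)
    {E : CochainComplex C ℤ} (hE : SP P E) (e : Q.obj E ≅ K) : eulD K hK = eul P E := by
  obtain ⟨hE', ⟨e'⟩⟩ := ((perfP_iff K).1 hK).choose_spec
  exact eul_eq_of_iso hP hE' hE (e' ≪≫ e.symm)

theorem eulD_triangle (hP : ProjClass P) (T : Triangle (DerivedCategory C))
    (hT : T ∈ distTriang _) (h₁ : PerfP P T.obj₁) (h₂ : PerfP P T.obj₂) (h₃ : PerfP P T.obj₃) :
    eulD T.obj₂ h₂ = eulD T.obj₁ h₁ + eulD T.obj₃ h₃ := by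
  obtain ⟨E₁, hE₁, ⟨e₁⟩⟩ := (perfP_iff _).1 h₁
  obtain ⟨E₂, hE₂, ⟨e₂⟩⟩ := (perfP_iff _).1 h₂
  obtain ⟨f, hf⟩ := exists_map_eq hP hE₁ E₂ (e₁.hom ≫ T.mor₁ ≫ e₂.inv)
  have hT' := mappingCone_triangle_distinguished f
  have comm : (Q.mapTriangle.obj (CochainComplex.mappingCone.triangle f)).mor₁ ≫ e₂.hom =
      e₁.hom ≫ T.mor₁ := by
    change Q.map f ≫ e₂.hom = _
    rw [hf]
    simp
  have e₃ : Q.obj (CochainComplex.mappingCone f) ≅ T.obj₃ :=
    Triangle.π₃.mapIso (isoTriangleOfIso₁₂ _ T hT' hT e₁ e₂ comm)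
  rw [eulD_eq hP h₁ hE₁ e₁, eulD_eq hP h₂ hE₂ e₂,
    eulD_eq hP h₃ (SP_mappingCone f hP hE₁ hE₂) e₃, eul_mappingCone f hP hE₁ hE₂]
  abel

/-- the Euler characteristic homomorphism -/
noncomputable def psi (hP : ProjClass P) : KZero.K0tr (PerfP P) →+ KZero.K0sub P :=
  K0trLift (fun K hK => eulD K hK) (fun T hT h₁ h₂ h₃ => eulD_triangle hP T hT h₁ h₂ h₃)

lemma psi_clQ (hP : ProjClass P) (K : DerivedCategory C) (hK : PerfP P K) :
    psi hP (clQ (PerfP P) K hK) = eulD K hK :=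
  K0trLift_clQ _ _ K hK

lemma psi_clQ_Q (hP : ProjClass P) {E : CochainComplex C ℤ} (hE : SP P E) :
    psi hP (clQ (PerfP P) (Q.obj E) (perfP_Q hE)) = eul P E := by
  rw [psi_clQ, eulD_eq hP _ hE (Iso.refl _)]

end PerfK0

end Groth.Agent.Lib.Helper16
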